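import Groth.Agent.Lib.LRSImm7.Basic

/-!
# A closed immersion of locally ringed spaces into an affine scheme is a spectrum of a quotient
-/

set_option autoImplicit false
set_option linter.style.haveILetI false
universe u

open CategoryTheory TopologicalSpace Opposite AlgebraicGeometry

namespace GrothLib.LRSImm7

theorem isIso_of_comp {S Y : Scheme.{u}} [IsAffine S] {Z : LocallyRingedSpace.{u}} (j : Y ⟶ S) [IsClosedImmersion j]
    (h : Z ⟶ Y.toLocallyRingedSpace) (hi : Good (h ≫ j.toLRSHom))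
    (hjI : ∀ r ∈ kerTop (X := S) (h ≫ j.toLRSHom), j.appTop r = 0)
    (hjrange : Set.range j = S.zeroLocus (U := ⊤) (kerTop (X := S) (h ≫ j.toLRSHom) : Set Γ(S, ⊤))) : IsIso h := by
  have hjinj : Function.Injective j := j.isClosedEmbedding.injective
  have hemb : Topology.IsEmbedding h.base :=
    Topology.IsEmbedding.of_comp h.base.hom.continuous j.continuous hi.emb.isEmbedding
  have hsurj : Function.Surjective h.base := fun y => by
    have : j y ∈ Set.range (h ≫ j.toLRSHom).base := by rw [range_eq (X := S) hi, ← hjrange]; exact Set.mem_range_self y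
    obtain ⟨z, hz⟩ := this
    exact ⟨z, hjinj hz⟩
  have hopen : Topology.IsOpenEmbedding h.base :=
    ⟨hemb, by rw [Set.range_eq_univ.2 hsurj]; exact isOpen_univ⟩
  haveI : ∀ z : Z.toTopCat, IsIso (h.stalkMap z) := by
    intro z
    rw [ConcreteCategory.isIso_iff_bijective]
    have hc : ∀ a, (h ≫ j.toLRSHom).stalkMap z a = h.stalkMap z (j.stalkMap (h.base z) a) := fun a => by
      rw [LocallyRingedSpace.stalkMap_comp]
      rfl
    constructor
    · rw [injective_iff_map_eq_zero]
      intro c hc0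
      obtain ⟨a, rfl⟩ := j.stalkMap_surjective (h.base z) c
      have ha := (mem_span_germ_kerTop (X := S) hi).1 z a ((hc a).trans hc0)
      suffices (kerTop (X := S) (h ≫ j.toLRSHom)).map (S.presheaf.germ ⊤ (j (h.base z)) trivial).hom ≤
          RingHom.ker (j.stalkMap (h.base z)).hom from RingHom.mem_ker.1 (this ha)
      rw [Ideal.map_le_iff_le_comap]
      intro r hr
      refine RingHom.mem_ker.2 ?_
      refine (Scheme.Hom.germ_stalkMap_apply j ⊤ (h.base z) trivial r).trans ?_
      exact (congrArg _ (hjI r hr)).trans (map_zero _)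
    · intro c
      obtain ⟨a, ha⟩ := hi.surj z c
      exact ⟨j.stalkMap (h.base z) a, (hc a).symm.trans ha⟩
  haveI := LocallyRingedSpace.IsOpenImmersion.of_stalk_iso h hopen
  haveI : Epi h.base := (TopCat.epi_iff_surjective _).2 hsurj
  exact LocallyRingedSpace.IsOpenImmersion.to_iso h


theorem exists_iso_spec_quotient (R : Type u) [CommRing R] (Z : LocallyRingedSpace.{u})
    (i : Z ⟶ (Spec (CommRingCat.of R)).toLocallyRingedSpace) (hi : Good i) (I : Ideal R)
    (hI : I = RingHom.ker ((Scheme.ΓSpecIso (CommRingCat.of R)).inv ≫ i.c.app (op ⊤)).hom) :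
    ∃ e : Z ≅ (Spec (CommRingCat.of (R ⧸ I))).toLocallyRingedSpace,
      e.hom ≫ (Spec.map (CommRingCat.ofHom (Ideal.Quotient.mk I))).toLRSHom = i := by
  let S : Scheme.{u} := Spec (CommRingCat.of R)
  let q : CommRingCat.of R ⟶ CommRingCat.of (R ⧸ I) := CommRingCat.ofHom (Ideal.Quotient.mk I)
  let j := Spec.map q
  haveI : IsClosedImmersion j := IsClosedImmersion.spec_of_surjective q Ideal.Quotient.mk_surjective
  let φ : CommRingCat.of R ⟶ Z.presheaf.obj (op ⊤) := (Scheme.ΓSpecIso (CommRingCat.of R)).inv ≫ i.c.app (op ⊤)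
  let ψ : CommRingCat.of (R ⧸ I) ⟶ Z.presheaf.obj (op ⊤) :=
    CommRingCat.ofHom (Ideal.Quotient.lift I φ.hom fun r hr => by rw [hI] at hr; exact RingHom.mem_ker.1 hr)
  let adj := ΓSpec.locallyRingedSpaceAdjunction.{u}
  let h : Z ⟶ (Spec (CommRingCat.of (R ⧸ I))).toLocallyRingedSpace :=
    adj.homEquiv Z (op (CommRingCat.of (R ⧸ I))) ψ.op
  have hcomp : h ≫ j.toLRSHom = i := by
    have h1 : h ≫ j.toLRSHom = adj.homEquiv Z (op (CommRingCat.of R)) φ.op := by
      refine (adj.homEquiv_naturality_right ψ.op q.op).symm.trans (congrArg _ (Quiver.Hom.unop_inj ?_))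
      exact CommRingCat.hom_ext (RingHom.ext fun _ => rfl)
    refine h1.trans ((Equiv.apply_eq_iff_eq_symm_apply _).2 ?_)
    exact (adj.homEquiv_counit _ _ i).symm
  -- the kernel is the ideal `I`
  have hker : kerTop (X := S) i = I.map (Scheme.ΓSpecIso (CommRingCat.of R)).inv.hom := by
    refine le_antisymm (fun r hr => ?_) (Ideal.map_le_iff_le_comap.2 fun r hr => ?_)
    · have hr' : r = (Scheme.ΓSpecIso (CommRingCat.of R)).inv ((Scheme.ΓSpecIso (CommRingCat.of R)).hom r) :=
        (ConcreteCategory.congr_hom (Scheme.ΓSpecIso (CommRingCat.of R)).hom_inv_id r).symm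
      have hmem : (Scheme.ΓSpecIso (CommRingCat.of R)).hom r ∈ I := by
        rw [hI, RingHom.mem_ker]
        exact (congrArg (i.c.app (op ⊤)).hom hr'.symm).trans (RingHom.mem_ker.1 hr)
      rw [hr']
      exact Ideal.mem_map_of_mem _ hmem
    · rw [hI] at hr
      exact RingHom.mem_ker.2 (RingHom.mem_ker.1 hr)
  have hjI : ∀ r ∈ kerTop (X := S) i, j.appTop r = 0 := by
    intro r hr
    suffices kerTop (X := S) i ≤ RingHom.ker j.appTop.hom from RingHom.mem_ker.1 (this hr)
    rw [hker, Ideal.map_le_iff_le_comap]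
    intro r hr
    refine RingHom.mem_ker.2 ?_
    show ((Scheme.ΓSpecIso (CommRingCat.of R)).inv ≫ j.appTop).hom r = 0
    rw [← Scheme.ΓSpecIso_inv_naturality q]
    exact (congrArg (Scheme.ΓSpecIso (CommRingCat.of (R ⧸ I))).inv.hom (Ideal.Quotient.eq_zero_iff_mem.2 hr)).trans
      (map_zero _)
  have hjrange : Set.range j = S.zeroLocus (U := ⊤) (kerTop (X := S) i : Set Γ(S, ⊤)) := by
    rw [hker, Ideal.map, Scheme.zeroLocus_span]
    rw [show Set.range j = PrimeSpectrum.zeroLocus (I : Set R) from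
      (range_comap_of_surjective _ (Ideal.Quotient.mk I) Ideal.Quotient.mk_surjective).trans (by
        congr 1; exact congrArg SetLike.coe Ideal.mk_ker)]
    refine Set.ext fun p => Iff.trans ?_ (Scheme.mem_zeroLocus_iff S _ p).symm
    simp only [Set.mem_image, forall_exists_index, and_imp, forall_apply_eq_imp_iff₂]
    constructor
    · intro hp r hr
      rw [basicOpen_eq_of_affine]
      exact fun h => h (hp hr)
    · intro hp r hr
      have := hp r hr
      rw [basicOpen_eq_of_affine] at this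
      exact not_not.1 this
  haveI := isIso_of_comp (S := S) j h (hcomp.symm ▸ hi) (hcomp.symm ▸ hjI) (hcomp.symm ▸ hjrange)
  exact ⟨asIso h, hcomp⟩

theorem exists_scheme_iso {X : Scheme.{u}} {Z : LocallyRingedSpace.{u}} {i : Z ⟶ X.toLocallyRingedSpace}
    (hi : Good i) : ∃ (Z' : Scheme.{u}) (e : Z'.toLocallyRingedSpace ≅ Z),
      AlgebraicGeometry.IsClosedImmersion (Scheme.Hom.mk (e.hom ≫ i) : Z' ⟶ X) := by
  have hloc : ∀ z : Z.toTopCat, ∃ (V : OpenNhds z) (R : CommRingCat.{u}),
      Nonempty (Z.restrict V.isOpenEmbedding ≅ Spec.toLocallyRingedSpace.obj (op R)) := by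
    intro z
    obtain ⟨U, hU, hzU, -⟩ := exists_isAffineOpen_mem_and_subset (U := (⊤ : X.Opens)) (x := i.base z) trivial
    let V : OpenNhds z := ⟨(Opens.map i.base).obj U, hzU⟩
    let r := Z.ofRestrict V.isOpenEmbedding
    let u := hU.fromSpec.toLRSHom
    have hru : Set.range (r ≫ i).base ⊆ Set.range u.base := by
      rintro _ ⟨w, rfl⟩
      exact (Set.ext_iff.1 hU.range_fromSpec _).2 w.2
    let i' := LocallyRingedSpace.IsOpenImmersion.lift u (r ≫ i) hru
    have hr : Set.range r.base = i.base ⁻¹' Set.range u.base :=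
      (Subtype.range_coe (s := (((Opens.map i.base).obj U).1 : Set Z.toTopCat))).trans
        (congrArg (fun S : Set X => i.base ⁻¹' S) hU.range_fromSpec.symm)
    have hi' : Good i' := hi.pullback u r i' (LocallyRingedSpace.IsOpenImmersion.lift_fac u (r ≫ i) hru) hr
    obtain ⟨e, -⟩ := exists_iso_spec_quotient Γ(X, U) _ i' hi' _ rfl
    exact ⟨V, _, ⟨e⟩⟩
  let Z' : Scheme.{u} := ⟨Z, hloc⟩
  refine ⟨Z', Iso.refl Z, ?_⟩
  haveI : SurjectiveOnStalks (Scheme.Hom.mk ((Iso.refl Z).hom ≫ i) : Z' ⟶ X) := ⟨fun z => by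
    show Function.Surjective ((𝟙 Z ≫ i).stalkMap z)
    rw [Category.id_comp]
    exact hi.surj z⟩
  exact ⟨hi.emb⟩

end GrothLib.LRSImm7
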