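import Groth.Prelude.Def_W4stkremschemesLRS
import Mathlib.AlgebraicGeometry.Morphisms.ClosedImmersion

/-!
# Closed immersions of locally ringed spaces into schemes, stalkwise
-/

set_option autoImplicit false
set_option linter.style.haveILetI false
universe u

open CategoryTheory TopologicalSpace Opposite AlgebraicGeometry

namespace GrothLib.LRSImm7

/-- A stalkwise form of being a closed immersion of locally ringed spaces. -/
structure Good {Z X : LocallyRingedSpace.{u}} (i : Z ⟶ X) : Prop where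
  emb : Topology.IsClosedEmbedding i.base
  surj : ∀ z : Z.toTopCat, Function.Surjective (i.stalkMap z)
  gen : ∀ x : X.toTopCat, ∃ (U : Opens X.toTopCat) (_ : x ∈ U) (ι : Type u) (s : ι → X.presheaf.obj (op U)),
    (∀ j (z : Z.toTopCat) (hz : i.base z ∈ U), i.stalkMap z (X.presheaf.germ U (i.base z) hz (s j)) = 0) ∧
    (∀ (z : Z.toTopCat) (hz : i.base z ∈ U) (a : X.presheaf.stalk (i.base z)), i.stalkMap z a = 0 →
      a ∈ Ideal.span (Set.range fun j => X.presheaf.germ U (i.base z) hz (s j))) ∧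
    (∀ (x' : X.toTopCat) (hx' : x' ∈ U), x' ∉ Set.range i.base →
      (1 : X.presheaf.stalk x') ∈ Ideal.span (Set.range fun j => X.presheaf.germ U x' hx' (s j)))

theorem good_of_isClosedImmersion {Z X : LocallyRingedSpace.{u}} {i : Z ⟶ X} (hi : LRSImm.IsClosedImmersion i) :
    Good i := by
  obtain ⟨hemb, hsurj, hgen⟩ := hi
  have hiso : ∀ z, IsIso (Z.presheaf.stalkPushforward CommRingCat i.base z) := fun z =>
    TopCat.Presheaf.stalkPushforward.stalkPushforward_iso_of_isInducing CommRingCat hemb.isInducing _ z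
  have hbij : ∀ z, Function.Bijective (Z.presheaf.stalkPushforward CommRingCat i.base z) := fun z =>
    haveI := hiso z
    ConcreteCategory.bijective_of_isIso _
  refine ⟨hemb, fun z => ?_, fun x => ?_⟩
  · exact (hbij z).2.comp ((TopCat.Presheaf.locally_surjective_iff_surjective_on_stalks _).1 hsurj (i.base z))
  obtain ⟨U, hxU, ι, s, h0, h⟩ := hgen x
  refine ⟨U, hxU, ι, s, fun j z hz => ?_, fun z hz a ha => ?_, fun x' hx' hnot => ?_⟩
  · rw [LocallyRingedSpace.stalkMap_germ_apply, h0 j]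
    exact map_zero _
  · refine (le_of_eq (h (i.base z) hz).symm) (RingHom.mem_ker.2 ((hbij z).1 ?_))
    exact ha.trans (map_zero _).symm
  · refine (le_of_eq (h x' hx').symm) (RingHom.mem_ker.2 ?_)
    let W : Opens X.toTopCat := ⟨(Set.range i.base)ᶜ, hemb.isClosed_range.isOpen_compl⟩
    refine (map_one _).trans ?_
    refine (map_one ((i.base _* Z.presheaf).germ W x' hnot).hom).symm.trans
      ((congrArg _ ?_).trans (map_zero ((i.base _* Z.presheaf).germ W x' hnot).hom))
    exact TopCat.Presheaf.section_ext Z.sheaf ((Opens.map i.base).obj W) _ _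
      fun z hz => absurd (Set.mem_range_self z) hz

theorem stalkMap_germ_eq {Z X : LocallyRingedSpace.{u}} {f g : Z ⟶ X} (h : f = g) (z : Z.toTopCat)
    {U : Opens X.toTopCat} (hf : f.base z ∈ U) (hg : g.base z ∈ U) (s : X.presheaf.obj (op U)) :
    f.stalkMap z (X.presheaf.germ U (f.base z) hf s) = g.stalkMap z (X.presheaf.germ U (g.base z) hg s) := by
  subst h; rfl

theorem germ_mem_span_congr {X : LocallyRingedSpace.{u}} {x x' : X.toTopCat} (h : x = x') {U W : Opens X.toTopCat}
    {ι : Type u} (s : ι → X.presheaf.obj (op U)) (t : X.presheaf.obj (op W)) (hx : x ∈ U) (hx' : x' ∈ U)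
    (hW : x ∈ W) (hW' : x' ∈ W)
    (hm : X.presheaf.germ W x hW t ∈ Ideal.span (Set.range fun j => X.presheaf.germ U x hx (s j))) :
    X.presheaf.germ W x' hW' t ∈ Ideal.span (Set.range fun j => X.presheaf.germ U x' hx' (s j)) := by
  subst h; exact hm

/-- Pulling back along an open immersion. -/
theorem Good.pullback {Z Z' X X' : LocallyRingedSpace.{u}} {i : Z ⟶ X} (hi : Good i) (u : X' ⟶ X)
    [LocallyRingedSpace.IsOpenImmersion u] (r : Z' ⟶ Z) [LocallyRingedSpace.IsOpenImmersion r]
    (i' : Z' ⟶ X') (w : i' ≫ u = r ≫ i) (hr : Set.range r.base = i.base ⁻¹' Set.range u.base) : Good i' := by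
  have hu : Topology.IsOpenEmbedding u.base := PresheafedSpace.IsOpenImmersion.base_open
  have hr' : Topology.IsOpenEmbedding r.base := PresheafedSpace.IsOpenImmersion.base_open
  have hub : ∀ y, Function.Bijective (u.stalkMap y) := fun y => ConcreteCategory.bijective_of_isIso (u.stalkMap y)
  have hrb : ∀ z, Function.Bijective (r.stalkMap z) := fun z => ConcreteCategory.bijective_of_isIso (r.stalkMap z)
  have hpt : ∀ z, u.base (i'.base z) = i.base (r.base z) := fun z =>
    congrArg (fun φ : Z' ⟶ X => φ.base z) w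
  have hrange : Set.range i'.base = u.base ⁻¹' Set.range i.base := by
    ext y
    constructor
    · rintro ⟨z, rfl⟩
      exact ⟨r.base z, (hpt z).symm⟩
    · rintro ⟨z, hz⟩
      obtain ⟨z', rfl⟩ : z ∈ Set.range r.base := by rw [hr]; exact ⟨y, hz.symm⟩
      exact ⟨z', hu.injective ((hpt z').trans hz)⟩
  -- the composite maps agree on germs
  have hgerm : ∀ (z : Z'.toTopCat) (U : Opens X.toTopCat) (h : u.base (i'.base z) ∈ U) (h' : i.base (r.base z) ∈ U)
      (s : X.presheaf.obj (op U)), i'.stalkMap z (u.stalkMap (i'.base z) (X.presheaf.germ U _ h s)) =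
        r.stalkMap z (i.stalkMap (r.base z) (X.presheaf.germ U _ h' s)) := fun z U h h' s => by
    have := stalkMap_germ_eq w z (U := U) h h' s
    rwa [LocallyRingedSpace.stalkMap_comp, LocallyRingedSpace.stalkMap_comp] at this
  refine ⟨⟨?_, ?_⟩, fun z => fun a => ?_, fun y => ?_⟩
  · refine Topology.IsEmbedding.of_comp i'.base.hom.continuous u.base.hom.continuous ?_
    have : (u.base ∘ i'.base : Z'.toTopCat → X.toTopCat) = i.base ∘ r.base := funext hpt
    rw [this]
    exact hi.emb.isEmbedding.comp hr'.isEmbedding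
  · rw [hrange]
    exact hi.emb.isClosed_range.preimage u.base.hom.continuous
  · obtain ⟨b, rfl⟩ := (hrb z).2 a
    obtain ⟨c, rfl⟩ := hi.surj _ b
    obtain ⟨W, hW, s, rfl⟩ := X.presheaf.exists_germ_eq c
    exact ⟨u.stalkMap _ (X.presheaf.germ W _ ((hpt z).symm ▸ hW) s), hgerm z W _ hW s⟩
  · obtain ⟨U, hxU, ι, s, h0, h1, h2⟩ := hi.gen (u.base y)
    let U' : Opens X'.toTopCat := (Opens.map u.base).obj U
    let s' : ι → X'.presheaf.obj (op U') := fun j => u.c.app (op U) (s j)
    have hs : ∀ (y' : X'.toTopCat) (hy' : y' ∈ U') (j : ι),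
        u.stalkMap y' (X.presheaf.germ U (u.base y') hy' (s j)) = X'.presheaf.germ U' y' hy' (s' j) := fun y' hy' j =>
      LocallyRingedSpace.stalkMap_germ_apply _ _ _ _ _
    have hmap : ∀ (y' : X'.toTopCat) (hy' : y' ∈ U') (b : X.presheaf.stalk (u.base y')),
        b ∈ Ideal.span (Set.range fun j => X.presheaf.germ U (u.base y') hy' (s j)) →
        u.stalkMap y' b ∈ Ideal.span (Set.range fun j => X'.presheaf.germ U' y' hy' (s' j)) := fun y' hy' b hb => by
      have := Ideal.mem_map_of_mem (u.stalkMap y').hom hb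
      rw [Ideal.map_span, ← Set.range_comp] at this
      simpa only [Function.comp_def, hs] using this
    refine ⟨U', hxU, ι, s', fun j z hz => ?_, fun z hz a ha => ?_, fun y' hy' hnot => ?_⟩
    · have hz' : i.base (r.base z) ∈ U := hpt z ▸ hz
      rw [← hs, hgerm z U hz hz', h0 j _ hz', map_zero]
    · obtain ⟨b, rfl⟩ := (hub _).2 a
      obtain ⟨W, hW, t, rfl⟩ := X.presheaf.exists_germ_eq b
      have hW' : i.base (r.base z) ∈ W := hpt z ▸ hW
      have hz' : i.base (r.base z) ∈ U := hpt z ▸ hz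
      rw [hgerm z W hW hW', ← map_zero (r.stalkMap z).hom] at ha
      exact hmap _ hz _ (germ_mem_span_congr (hpt z).symm s t hz' hz hW' hW (h1 _ hz' _ ((hrb z).1 ha)))
    · rw [← map_one (u.stalkMap y').hom]
      exact hmap _ hy' _ (h2 _ hy' fun h => hnot (hrange ▸ h))

section Affine

variable {X : Scheme.{u}} [IsAffine X] {Z : LocallyRingedSpace.{u}} {i : Z ⟶ X.toLocallyRingedSpace}

/-- The global kernel. -/
def kerTop (i : Z ⟶ X.toLocallyRingedSpace) : Ideal Γ(X, ⊤) := RingHom.ker (i.c.app (op ⊤)).hom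

theorem mem_kerTop {r : Γ(X, ⊤)} :
    r ∈ kerTop i ↔ ∀ z : Z.toTopCat, i.stalkMap z (X.presheaf.germ ⊤ (i.base z) trivial r) = 0 := by
  refine ⟨fun h z => ?_, fun h => ?_⟩
  · exact (LocallyRingedSpace.stalkMap_germ_apply i ⊤ z trivial r).trans (by rw [RingHom.mem_ker.1 h]; exact map_zero _)
  · refine RingHom.mem_ker.2 (TopCat.Presheaf.section_ext Z.sheaf _ _ _ fun z hz => ?_)
    exact ((LocallyRingedSpace.stalkMap_germ_apply i ⊤ z trivial r).symm.trans (h z)).trans (map_zero _).symm

theorem exists_pow_killed (hi : Good i) {f : Γ(X, ⊤)} {a : Γ(X, ⊤)}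
    (ha : ∀ z : Z.toTopCat, i.base z ∈ X.basicOpen f → i.stalkMap z (X.presheaf.germ ⊤ (i.base z) trivial a) = 0) :
    ∃ N : ℕ, f ^ N * a ∈ kerTop i := by
  classical
  have key : ∀ x : X, ∃ g : Γ(X, ⊤), x ∈ X.basicOpen g ∧ ∃ N : ℕ, ∀ M, N ≤ M → ∀ z : Z.toTopCat,
      i.base z ∈ X.basicOpen g → i.stalkMap z (X.presheaf.germ ⊤ (i.base z) trivial (f ^ M * a)) = 0 := by
    intro x
    obtain ⟨U, hxU, ι, s, h0, h1, h2⟩ := hi.gen x
    obtain ⟨g, hgU, hxg⟩ := (isAffineOpen_top X).exists_basicOpen_le (V := U) ⟨x, hxU⟩ (Set.mem_univ _)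
    refine ⟨g, hxg, ?_⟩
    have hW : IsAffineOpen (X.basicOpen g) := (isAffineOpen_top X).basicOpen g
    let ρ := X.presheaf.map (homOfLE (le_top : X.basicOpen g ≤ ⊤)).op
    let t : ι → Γ(X, X.basicOpen g) := fun j => X.presheaf.map (homOfLE hgU).op (s j)
    let T : Ideal Γ(X, X.basicOpen g) := Ideal.span (Set.range t)
    let J : Ideal Γ(X, X.basicOpen g) := Submodule.colon T {ρ a}
    have hJ : ρ f ∈ J.radical := by
      rw [Ideal.radical_eq_sInf, Submodule.mem_sInf]
      rintro q ⟨hq, hqprime⟩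
      by_contra hfq
      let y := hW.fromSpec ⟨q, hqprime⟩
      have hyW : y ∈ X.basicOpen g := by
        have : y ∈ Set.range hW.fromSpec := ⟨_, rfl⟩
        rwa [hW.range_fromSpec] at this
      let _ : Algebra Γ(X, X.basicOpen g) (X.presheaf.stalk y) := (X.presheaf.germ _ y hyW).hom.toAlgebra
      haveI hloc : IsLocalization.AtPrime (X.presheaf.stalk y) q := hW.isLocalization_stalk' ⟨q, hqprime⟩ hyW
      have hspan : Ideal.span (Set.range fun j => X.presheaf.germ U y (hgU hyW) (s j)) =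
          T.map (algebraMap Γ(X, X.basicOpen g) (X.presheaf.stalk y)) := by
        rw [Ideal.map_span, ← Set.range_comp]
        congr 2
        ext j
        exact (TopCat.Presheaf.germ_res_apply X.presheaf (homOfLE hgU) y hyW (s j)).symm
      have hga : algebraMap Γ(X, X.basicOpen g) (X.presheaf.stalk y) (ρ a) = X.presheaf.germ ⊤ y trivial a :=
        TopCat.Presheaf.germ_res_apply X.presheaf _ y hyW a
      have hmem : algebraMap Γ(X, X.basicOpen g) (X.presheaf.stalk y) (ρ a) ∈
          T.map (algebraMap Γ(X, X.basicOpen g) (X.presheaf.stalk y)) := by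
        rw [← hspan, hga]
        by_cases hy : y ∈ Set.range i.base
        · obtain ⟨z, hz⟩ := hy
          have hfz : y ∈ X.basicOpen f := by
            rw [Scheme.mem_basicOpen X f y trivial, ← TopCat.Presheaf.germ_res_apply X.presheaf (homOfLE (le_top : X.basicOpen g ≤ ⊤)) y hyW f]
            exact IsLocalization.map_units (M := (Ideal.primeCompl q)) (X.presheaf.stalk y) ⟨ρ f, hfq⟩
          exact germ_mem_span_congr (X := X.toLocallyRingedSpace) hz s a (hz ▸ hgU hyW) _ trivial trivial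
            (h1 z (hz ▸ hgU hyW) _ (ha z (hz ▸ hfz)))
        · exact (Ideal.eq_top_iff_one _).2 (h2 y (hgU hyW) hy) ▸ Submodule.mem_top
      obtain ⟨m, hm, hma⟩ := (IsLocalization.algebraMap_mem_map_algebraMap_iff (Ideal.primeCompl q) _ T (ρ a)).1 hmem
      exact hm (hq (Submodule.mem_colon_singleton.2 (by simpa [mul_comm] using hma)))
    obtain ⟨N, hN⟩ := hJ
    refine ⟨N, fun M hM z hz => ?_⟩
    have hT : ρ (f ^ M * a) ∈ T := by
      rw [map_mul, map_pow, ← Nat.add_sub_cancel' hM, pow_add, mul_comm (ρ f ^ N), mul_assoc]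
      exact T.mul_mem_left _ (by simpa [mul_comm] using Submodule.mem_colon_singleton.1 hN)
    rw [← TopCat.Presheaf.germ_res_apply X.presheaf (homOfLE (le_top : X.basicOpen g ≤ ⊤)) (i.base z) hz]
    have hker : T ≤ RingHom.ker ((X.presheaf.germ _ (i.base z) hz) ≫ i.stalkMap z).hom := by
      rw [Ideal.span_le]
      rintro _ ⟨j, rfl⟩
      refine RingHom.mem_ker.2 ?_
      show i.stalkMap z (X.presheaf.germ _ (i.base z) hz (X.presheaf.map (homOfLE hgU).op (s j))) = 0
      rw [TopCat.Presheaf.germ_res_apply]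
      exact h0 j z (hgU hz)
    exact RingHom.mem_ker.1 (hker hT)
  choose g hg N hN using key
  obtain ⟨S, hS⟩ := isCompact_univ.elim_finite_subcover (fun x => ((X.basicOpen (g x) : X.Opens) : Set X))
    (fun x => (X.basicOpen (g x)).2) (fun x _ => Set.mem_iUnion.2 ⟨x, hg x⟩)
  refine ⟨S.sup N, mem_kerTop.2 fun z => ?_⟩
  obtain ⟨x, hxS, hzx⟩ := Set.mem_iUnion₂.1 (hS (Set.mem_univ (i.base z)))
  exact hN x _ (Finset.le_sup hxS) z hzx

theorem mem_span_germ_kerTop (hi : Good i) :
    (∀ (z : Z.toTopCat) (a : X.presheaf.stalk (i.base z)), i.stalkMap z a = 0 →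
        a ∈ (kerTop i).map (X.presheaf.germ ⊤ (i.base z) trivial).hom) ∧
      ∀ x : X, x ∉ Set.range i.base → (1 : X.presheaf.stalk x) ∈ (kerTop i).map (X.presheaf.germ ⊤ x trivial).hom := by
  have key : ∀ (x : X) (U : X.Opens) (hxU : x ∈ U) (s : Γ(X, U)),
      (∀ (z : Z.toTopCat) (hz : i.base z ∈ U), i.stalkMap z (X.presheaf.germ U (i.base z) hz s) = 0) →
      X.presheaf.germ U x hxU s ∈ (kerTop i).map (X.presheaf.germ ⊤ x trivial).hom := by
    intro x U hxU s hs
    obtain ⟨f, hfU, hxf⟩ := (isAffineOpen_top X).exists_basicOpen_le (V := U) ⟨x, hxU⟩ (Set.mem_univ _)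
    haveI := (isAffineOpen_top X).isLocalization_basicOpen f
    obtain ⟨⟨a, ⟨_, m, rfl⟩⟩, hma⟩ := IsLocalization.surj (Submonoid.powers f) (X.presheaf.map (homOfLE hfU).op s)
    have hga : ∀ (y : X) (hy : y ∈ X.basicOpen f),
        X.presheaf.germ U y (hfU hy) s * X.presheaf.germ ⊤ y trivial (f ^ m) = X.presheaf.germ ⊤ y trivial a := by
      intro y hy
      have := congrArg (X.presheaf.germ _ y hy).hom hma
      rw [map_mul] at this
      exact (congrArg₂ (· * ·) (TopCat.Presheaf.germ_res_apply X.presheaf _ y hy s).symm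
        (TopCat.Presheaf.germ_res_apply X.presheaf _ y hy (f ^ m)).symm).trans
        (this.trans (TopCat.Presheaf.germ_res_apply X.presheaf _ y hy a))
    obtain ⟨N, hN⟩ := exists_pow_killed hi (f := f) (a := a) fun z hz => by
      rw [← hga _ hz, map_mul, hs z (hfU hz), zero_mul]
    have hunit : IsUnit (X.presheaf.germ ⊤ x trivial (f ^ (m + N))) := by
      rw [map_pow]
      exact ((Scheme.mem_basicOpen X f x trivial).1 hxf).pow _
    refine (Ideal.mul_unit_mem_iff_mem _ hunit).1 ?_
    rw [pow_add, map_mul, ← mul_assoc, hga x hxf, mul_comm, ← map_mul]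
    exact Ideal.mem_map_of_mem _ hN
  refine ⟨fun z a ha => ?_, fun x hx => ?_⟩
  · obtain ⟨U, hU, ι, s, h0, h1, -⟩ := hi.gen (i.base z)
    refine (Ideal.span_le.2 ?_) (h1 z hU a ha)
    rintro _ ⟨j, rfl⟩
    exact key _ U hU (s j) (h0 j)
  · obtain ⟨U, hU, ι, s, h0, -, h2⟩ := hi.gen x
    refine (Ideal.span_le.2 ?_) (h2 x hU hx)
    rintro _ ⟨j, rfl⟩
    exact key _ U hU (s j) (h0 j)

theorem range_eq (hi : Good i) : Set.range i.base = X.zeroLocus (U := ⊤) (kerTop i : Set Γ(X, ⊤)) := by
  ext x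
  rw [Scheme.mem_zeroLocus_iff]
  constructor
  · rintro ⟨z, rfl⟩ r hr hx
    have h := ((Scheme.mem_basicOpen X r (i.base z) trivial).1 hx).map (i.stalkMap z).hom
    rw [show (i.stalkMap z).hom (X.presheaf.germ ⊤ (i.base z) trivial r) = 0 from mem_kerTop.1 hr z] at h
    exact not_isUnit_zero h
  · intro h
    by_contra hx
    have h1 := (mem_span_germ_kerTop hi).2 x hx
    refine (IsLocalRing.maximalIdeal.isMaximal (X.presheaf.stalk x)).ne_top ((Ideal.eq_top_iff_one _).2 ?_)
    refine Ideal.map_le_iff_le_comap.2 (fun r hr => ?_) h1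
    exact fun hu => h r hr ((Scheme.mem_basicOpen X r x trivial).2 hu)

end Affine

end GrothLib.LRSImm7
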