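import Groth.Agent.Lib.LRSImm7.Basic

/-!
# Factorisation through a closed immersion of locally ringed spaces
-/

set_option autoImplicit false
set_option linter.style.haveILetI false
universe u

open CategoryTheory TopologicalSpace Opposite AlgebraicGeometry

namespace GrothLib.LRSImm7

variable {Z X Y : LocallyRingedSpace.{u}} {i : Z ⟶ X} {f : Y ⟶ X}

/-- `f` kills the kernel of `O_X → i_* O_Z`. -/
def Kills (i : Z ⟶ X) (f : Y ⟶ X) : Prop :=
  ∀ (U : Opens X.toTopCat) (s : X.presheaf.obj (op U)), i.c.app (op U) s = 0 → f.c.app (op U) s = 0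

theorem kills_of_fac {g : Y ⟶ Z} (h : g ≫ i = f) : Kills i f := by
  subst h
  intro U s hs
  show g.c.app _ (i.c.app (op U) s) = 0
  rw [hs]
  exact map_zero _

theorem range_subset (hi : Topology.IsClosedEmbedding i.base) (h : Kills i f) :
    Set.range f.base ⊆ Set.range i.base := by
  rintro x ⟨y, rfl⟩
  by_contra hx
  let W : Opens X.toTopCat := ⟨(Set.range i.base)ᶜ, hi.isClosed_range.isOpen_compl⟩
  have h1 : i.c.app (op W) (1 : X.presheaf.obj (op W)) = 0 :=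
    TopCat.Presheaf.section_ext Z.sheaf ((Opens.map i.base).obj W) _ _
      fun z hz => absurd (Set.mem_range_self z) hz
  have h2 := congrArg (Y.presheaf.germ ((Opens.map f.base).obj W) y hx).hom (h W 1 h1)
  rw [map_one, map_one, map_zero] at h2
  exact one_ne_zero h2

theorem key (hi : Good i) (h : Kills i f) {z : Z.toTopCat} {y : Y.toTopCat} (hzy : i.base z = f.base y)
    {U₁ U₂ : Opens X.toTopCat} (t₁ : X.presheaf.obj (op U₁)) (t₂ : X.presheaf.obj (op U₂))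
    (hz₁ : i.base z ∈ U₁) (hz₂ : i.base z ∈ U₂) (hy₁ : f.base y ∈ U₁) (hy₂ : f.base y ∈ U₂)
    (he : Z.presheaf.germ _ z hz₁ (i.c.app (op U₁) t₁) = Z.presheaf.germ _ z hz₂ (i.c.app (op U₂) t₂)) :
    Y.presheaf.germ _ y hy₁ (f.c.app (op U₁) t₁) = Y.presheaf.germ _ y hy₂ (f.c.app (op U₂) t₂) := by
  obtain ⟨U, hU, ι, s, h0, h1, -⟩ := hi.gen (i.base z)
  have hs : ∀ j, f.c.app (op U) (s j) = 0 := fun j => h U (s j) <|
    TopCat.Presheaf.section_ext Z.sheaf ((Opens.map i.base).obj U) _ _ fun w hw =>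
      ((LocallyRingedSpace.stalkMap_germ_apply i U w hw (s j)).symm.trans (h0 j w hw)).trans (map_zero _).symm
  let t : X.presheaf.obj (op (U₁ ⊓ U₂)) :=
    X.presheaf.map (homOfLE inf_le_left).op t₁ - X.presheaf.map (homOfLE inf_le_right).op t₂
  have hg : ∀ (x : X.toTopCat) (h₁ : x ∈ U₁) (h₂ : x ∈ U₂), X.presheaf.germ (U₁ ⊓ U₂) x ⟨h₁, h₂⟩ t =
      X.presheaf.germ _ x h₁ t₁ - X.presheaf.germ _ x h₂ t₂ := fun x h₁ h₂ => by
    show X.presheaf.germ (U₁ ⊓ U₂) x ⟨h₁, h₂⟩ (_ - _) = _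
    exact (map_sub _ _ _).trans (congrArg₂ (· - ·) (TopCat.Presheaf.germ_res_apply X.presheaf _ _ _ _)
      (TopCat.Presheaf.germ_res_apply X.presheaf _ _ _ _))
  have hmem : X.presheaf.germ (U₁ ⊓ U₂) (i.base z) ⟨hz₁, hz₂⟩ t ∈
      Ideal.span (Set.range fun j => X.presheaf.germ U (i.base z) hU (s j)) :=
    h1 z hU _ (by rw [hg _ hz₁ hz₂, map_sub, LocallyRingedSpace.stalkMap_germ_apply, LocallyRingedSpace.stalkMap_germ_apply, he, sub_self])
  have hmem' := germ_mem_span_congr hzy s t hU (hzy ▸ hU) ⟨hz₁, hz₂⟩ ⟨hy₁, hy₂⟩ hmem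
  have hle : Ideal.span (Set.range fun j => X.presheaf.germ U (f.base y) (hzy ▸ hU) (s j)) ≤ RingHom.ker (f.stalkMap y).hom := by
    rw [Ideal.span_le]
    rintro _ ⟨j, rfl⟩
    refine RingHom.mem_ker.2 ?_
    refine (LocallyRingedSpace.stalkMap_germ_apply f U y _ (s j)).trans ?_
    rw [hs j]
    exact map_zero _
  have := RingHom.mem_ker.1 (hle hmem')
  rw [hg _ hy₁ hy₂, map_sub, sub_eq_zero, LocallyRingedSpace.stalkMap_germ_apply, LocallyRingedSpace.stalkMap_germ_apply] at this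
  exact this

variable (i f) in
/-- `r` is the pullback of `s` along a lift `g₀` of `f`. -/
def IsPull (g₀ : Y.toTopCat ⟶ Z.toTopCat) {V : Opens Z.toTopCat} (s : Z.presheaf.obj (op V))
    (r : Y.presheaf.obj (op ((Opens.map g₀).obj V))) : Prop :=
  ∀ (y : Y.toTopCat) (hy : g₀ y ∈ V) (U : Opens X.toTopCat) (t : X.presheaf.obj (op U))
    (hz : i.base (g₀ y) ∈ U) (hfy : f.base y ∈ U),
    Z.presheaf.germ _ (g₀ y) hz (i.c.app (op U) t) = Z.presheaf.germ V (g₀ y) hy s →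
      Y.presheaf.germ _ y hy r = Y.presheaf.germ _ y hfy (f.c.app (op U) t)

theorem exists_local_lift (hi : Good i) {V : Opens Z.toTopCat} (s : Z.presheaf.obj (op V)) (z : Z.toTopCat) (hz : z ∈ V) :
    ∃ (U : Opens X.toTopCat) (t : X.presheaf.obj (op U)) (hU : i.base z ∈ U),
      Z.presheaf.germ _ z hU (i.c.app (op U) t) = Z.presheaf.germ V z hz s := by
  obtain ⟨a, ha⟩ := hi.surj z (Z.presheaf.germ V z hz s)
  obtain ⟨U, hU, t, rfl⟩ := X.presheaf.exists_germ_eq a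
  exact ⟨U, t, hU, (LocallyRingedSpace.stalkMap_germ_apply i U z hU t).symm.trans ha⟩

theorem exists_isPull (hi : Good i) (h : Kills i f) {g₀ : Y.toTopCat ⟶ Z.toTopCat} (hg₀ : ∀ y, i.base (g₀ y) = f.base y)
    {V : Opens Z.toTopCat} (s : Z.presheaf.obj (op V)) :
    ∃ r, IsPull i f g₀ s r := by
  classical
  let V' : Opens Y.toTopCat := (Opens.map g₀).obj V
  have hloc : ∀ y : V', ∃ (O : Opens Y.toTopCat) (U : Opens X.toTopCat) (t : X.presheaf.obj (op U))
      (hO : O ≤ V') (hU : O ≤ (Opens.map f.base).obj U), y.1 ∈ O ∧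
      ∀ (y' : Y.toTopCat) (hy' : y' ∈ O), Z.presheaf.germ _ (g₀ y') ((hg₀ y').symm ▸ hU hy' : i.base (g₀ y') ∈ U) (i.c.app (op U) t) =
        Z.presheaf.germ V (g₀ y') (hO hy') s := by
    rintro ⟨y, hy⟩
    obtain ⟨U, t, hU, hts⟩ := exists_local_lift hi s (g₀ y) hy
    obtain ⟨N, hN, i₁, i₂, he⟩ := TopCat.Presheaf.germ_eq Z.presheaf (g₀ y) hU hy _ _ hts
    refine ⟨(Opens.map g₀).obj N, U, t, fun y' hy' => i₂.le hy', fun y' hy' => ?_, hN, fun y' hy' => ?_⟩
    · show f.base y' ∈ U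
      rw [← hg₀]
      exact i₁.le hy'
    · have := congrArg (Z.presheaf.germ N (g₀ y') hy').hom he
      exact ((TopCat.Presheaf.germ_res_apply _ i₁ (g₀ y') hy' _).symm.trans this).trans
        (TopCat.Presheaf.germ_res_apply _ i₂ (g₀ y') hy' _)
  choose O U t hO hU hyO ht using hloc
  let sf : ∀ y : V', Y.presheaf.obj (op (O y)) := fun y => Y.presheaf.map (homOfLE (hU y)).op (f.c.app (op (U y)) (t y))
  have hcompat : TopCat.Presheaf.IsCompatible Y.presheaf O sf := fun a b => by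
    refine TopCat.Presheaf.section_ext Y.sheaf _ _ _ fun y' hy' => ?_
    refine (((TopCat.Presheaf.germ_res_apply _ _ _ _ _).trans (TopCat.Presheaf.germ_res_apply _ _ _ _ _)).trans ?_).trans
      ((TopCat.Presheaf.germ_res_apply _ _ _ _ _).trans (TopCat.Presheaf.germ_res_apply _ _ _ _ _)).symm
    exact key hi h (hg₀ y') (t a) (t b) ((hg₀ y').symm ▸ hU a hy'.1) ((hg₀ y').symm ▸ hU b hy'.2) _ _
      ((ht a y' hy'.1).trans (ht b y' hy'.2).symm)
  obtain ⟨r, hr, -⟩ := TopCat.Sheaf.existsUnique_gluing' Y.sheaf O V' (fun y => homOfLE (hO y))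
    (fun y hy => Opens.mem_iSup.2 ⟨⟨y, hy⟩, hyO _⟩) sf hcompat
  refine ⟨r, fun y hy U' t' hz hfy he => ?_⟩
  let y₀ : V' := ⟨y, hy⟩
  refine (TopCat.Presheaf.germ_res_apply _ (homOfLE (hO y₀)) y (hyO y₀) r).symm.trans ?_
  refine (congrArg (Y.presheaf.germ (O y₀) y (hyO y₀)).hom (hr y₀)).trans ?_
  refine (TopCat.Presheaf.germ_res_apply _ (homOfLE (hU y₀)) y (hyO y₀) _).trans ?_
  exact key hi h (hg₀ y) (t y₀) t' ((hg₀ y).symm ▸ hU y₀ (hyO y₀)) hz (hU y₀ (hyO y₀)) hfy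
    ((ht y₀ y (hyO y₀)).trans he.symm)

theorem IsPull.unique (hi : Good i) {g₀ : Y.toTopCat ⟶ Z.toTopCat} (hg₀ : ∀ y, i.base (g₀ y) = f.base y)
    {V : Opens Z.toTopCat} {s : Z.presheaf.obj (op V)} {r r' : Y.presheaf.obj (op ((Opens.map g₀).obj V))}
    (hr : IsPull i f g₀ s r) (hr' : IsPull i f g₀ s r') : r = r' := by
  refine TopCat.Presheaf.section_ext Y.sheaf _ _ _ fun y hy => ?_
  obtain ⟨U, t, hU, he⟩ := exists_local_lift hi s (g₀ y) hy
  exact (hr y hy U t hU (hg₀ y ▸ hU) he).trans (hr' y hy U t hU (hg₀ y ▸ hU) he).symm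

theorem exists_fac (hi : Good i) (h : Kills i f) : ∃ g : Y ⟶ Z, g ≫ i = f := by
  classical
  have hsub := range_subset hi.emb h
  choose φ hφ using fun y => hsub ⟨y, rfl⟩
  have hc : Continuous φ := by
    rw [hi.emb.isInducing.continuous_iff]
    rw [show (i.base ∘ φ : Y.toTopCat → X.toTopCat) = f.base from funext hφ]
    exact f.base.hom.continuous
  let g₀ : Y.toTopCat ⟶ Z.toTopCat := TopCat.ofHom ⟨φ, hc⟩
  have hg₀ : ∀ y, i.base (g₀ y) = f.base y := hφ
  choose r hr using fun (V : Opens Z.toTopCat) (s : Z.presheaf.obj (op V)) => exists_isPull hi h hg₀ s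
  have eq_r : ∀ {V : Opens Z.toTopCat} {s : Z.presheaf.obj (op V)} {x}, IsPull i f g₀ s x → r V s = x :=
    fun hx => (hr _ _).unique hi hg₀ hx
  have germ_r : ∀ (V : Opens Z.toTopCat) (y : Y.toTopCat) (hy : g₀ y ∈ V) (s : Z.presheaf.obj (op V)),
      ∃ (U : Opens X.toTopCat) (t : X.presheaf.obj (op U)) (hU : i.base (g₀ y) ∈ U) (hU' : f.base y ∈ U),
        Z.presheaf.germ _ (g₀ y) hU (i.c.app (op U) t) = Z.presheaf.germ V (g₀ y) hy s ∧
        Y.presheaf.germ _ y hy (r V s) = Y.presheaf.germ _ y hU' (f.c.app (op U) t) := fun V y hy s => by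
    obtain ⟨U, t, hU, he⟩ := exists_local_lift hi s (g₀ y) hy
    exact ⟨U, t, hU, hg₀ y ▸ hU, he, hr V s y hy U t hU _ he⟩
  have r_map : ∀ (V : Opens Z.toTopCat) (s s' : Z.presheaf.obj (op V)),
      r V (s + s') = r V s + r V s' ∧ r V (s * s') = r V s * r V s' ∧ r V 1 = 1 ∧ r V 0 = 0 := by
    intro V s s'
    have aux : ∀ (o : ∀ {R : CommRingCat.{u}}, R → R → R), (∀ {R S : CommRingCat.{u}} (φ : R ⟶ S) (a b : R), φ (o a b) = o (φ a) (φ b)) →
        r V (o s s') = o (r V s) (r V s') := by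
      intro o ho
      refine eq_r fun y hy U t hz hfy he => ?_
      obtain ⟨U₁, t₁, hU₁, hU₁', he₁, hr₁⟩ := germ_r V y hy s
      obtain ⟨U₂, t₂, hU₂, hU₂', he₂, hr₂⟩ := germ_r V y hy s'
      let t' := o (X.presheaf.map (homOfLE (inf_le_left : U₁ ⊓ U₂ ≤ U₁)).op t₁) (X.presheaf.map (homOfLE (inf_le_right : U₁ ⊓ U₂ ≤ U₂)).op t₂)
      rw [ho, hr₁, hr₂]
      have hZ : Z.presheaf.germ _ (g₀ y) (show i.base (g₀ y) ∈ U₁ ⊓ U₂ from ⟨hU₁, hU₂⟩) (i.c.app (op (U₁ ⊓ U₂)) t') =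
          Z.presheaf.germ V (g₀ y) hy (o s s') := by
        refine (LocallyRingedSpace.stalkMap_germ_apply i (U₁ ⊓ U₂) (g₀ y) ⟨hU₁, hU₂⟩ t').symm.trans ?_
        rw [ho, ho, ho]
        exact congrArg₂ o
          ((congrArg (i.stalkMap (g₀ y)).hom (TopCat.Presheaf.germ_res_apply X.presheaf _ _ _ _)).trans ((LocallyRingedSpace.stalkMap_germ_apply i U₁ (g₀ y) hU₁ t₁).trans he₁))
          ((congrArg (i.stalkMap (g₀ y)).hom (TopCat.Presheaf.germ_res_apply X.presheaf _ _ _ _)).trans ((LocallyRingedSpace.stalkMap_germ_apply i U₂ (g₀ y) hU₂ t₂).trans he₂))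
      refine Eq.trans ?_ (key hi h (hg₀ y) t' t ⟨hU₁, hU₂⟩ hz ⟨hU₁', hU₂'⟩ hfy (hZ.trans he.symm))
      refine Eq.trans ?_ (LocallyRingedSpace.stalkMap_germ_apply f (U₁ ⊓ U₂) y ⟨hU₁', hU₂'⟩ t')
      rw [ho, ho]
      exact congrArg₂ o
        ((LocallyRingedSpace.stalkMap_germ_apply f U₁ y hU₁' t₁).symm.trans (congrArg (f.stalkMap y).hom (TopCat.Presheaf.germ_res_apply X.presheaf _ _ _ _).symm))
        ((LocallyRingedSpace.stalkMap_germ_apply f U₂ y hU₂' t₂).symm.trans (congrArg (f.stalkMap y).hom (TopCat.Presheaf.germ_res_apply X.presheaf _ _ _ _).symm))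
    refine ⟨aux (fun a b => a + b) fun φ a b => map_add _ a b, aux (fun a b => a * b) fun φ a b => map_mul _ a b, ?_, ?_⟩
    · refine eq_r fun y hy U t hz hfy he => ?_
      have h1 := key hi h (hg₀ y) (1 : X.presheaf.obj (op U)) t hz hz hfy hfy (by rw [he, map_one, map_one, map_one])
      rw [← h1, map_one, map_one, map_one]
    · refine eq_r fun y hy U t hz hfy he => ?_
      have h1 := key hi h (hg₀ y) (0 : X.presheaf.obj (op U)) t hz hz hfy hfy (by rw [he, map_zero, map_zero, map_zero])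
      rw [← h1, map_zero, map_zero, map_zero]
  let c : Z.presheaf ⟶ g₀ _* Y.presheaf :=
    { app := fun V => CommRingCat.ofHom
        { toFun := r V.unop
          map_one' := (r_map _ 1 1).2.2.1
          map_mul' := fun s s' => (r_map _ s s').2.1
          map_zero' := (r_map _ 0 0).2.2.2
          map_add' := fun s s' => (r_map _ s s').1 }
      naturality := fun V W e => by
        ext s
        refine eq_r fun y hy U t hz hfy he => ?_
        show Y.presheaf.germ _ y hy (Y.presheaf.map ((Opens.map g₀).map e.unop).op (r V.unop s)) = _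
        refine (TopCat.Presheaf.germ_res_apply _ _ _ _ _).trans ?_
        refine hr V.unop s y (e.unop.le hy) U t hz hfy (he.trans ?_)
        exact TopCat.Presheaf.germ_res_apply Z.presheaf e.unop (g₀ y) hy s }
  let G : Y.toPresheafedSpace ⟶ Z.toPresheafedSpace := ⟨g₀, c⟩
  have hstalk : ∀ (y : Y.toTopCat) (a : Z.presheaf.stalk (g₀ y)), ∃ (U : Opens X.toTopCat) (t : X.presheaf.obj (op U))
      (hU : i.base (g₀ y) ∈ U) (hU' : f.base y ∈ U),
      i.stalkMap (g₀ y) (X.presheaf.germ U _ hU t) = a ∧ G.stalkMap y a = f.stalkMap y (X.presheaf.germ U _ hU' t) := by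
    intro y a
    obtain ⟨V, hV, s, rfl⟩ := Z.presheaf.exists_germ_eq a
    obtain ⟨U, t, hU, hU', he, hre⟩ := germ_r V y hV s
    exact ⟨U, t, hU, hU', (LocallyRingedSpace.stalkMap_germ_apply _ _ _ _ _).trans he,
      (PresheafedSpace.stalkMap_germ_apply G V y hV s).trans (hre.trans (LocallyRingedSpace.stalkMap_germ_apply f U y hU' t).symm)⟩
  have hloc : ∀ y, IsLocalHom (G.stalkMap y).hom := fun y => ⟨fun a ha => by
    obtain ⟨U, t, hU, hU', he, hG⟩ := hstalk y a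
    rw [show (G.stalkMap y).hom a = _ from hG] at ha
    have h1 : IsUnit (X.presheaf.germ U (f.base y) hU' t) := (isUnit_map_iff (f.stalkMap y).hom _).1 ha
    rw [← X.toRingedSpace.mem_basicOpen t _ hU'] at h1
    rw [← hg₀ y] at h1
    rw [← he]
    exact ((X.toRingedSpace.mem_basicOpen t _ hU).1 h1).map _⟩
  refine ⟨⟨G, hloc⟩, ?_⟩
  refine LocallyRingedSpace.Hom.ext' (PresheafedSpace.ext _ _ (TopCat.hom_ext (ContinuousMap.ext hg₀)) ?_)
  refine NatTrans.ext (funext fun U => ?_)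
  ext t
  refine TopCat.Presheaf.section_ext Y.sheaf _ _ _ fun y hy => ?_
  have hz : i.base (g₀ y) ∈ U.unop := (hg₀ y).symm ▸ hy
  refine Eq.trans ?_ (hr _ (i.c.app U t) y hz U.unop t hz hy rfl)
  exact TopCat.Presheaf.germ_res_apply _ _ _ _ _

theorem fac_unique (hi : Good i) {g g' : Y ⟶ Z} (h : g ≫ i = f) (h' : g' ≫ i = f) : g = g' := by
  subst h
  have hb : g'.base = g.base := TopCat.hom_ext (ContinuousMap.ext fun y =>
    hi.emb.injective (congrArg (fun φ : Y ⟶ X => φ.base y) h'))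
  obtain ⟨⟨g₀, c⟩, hg⟩ := g
  obtain ⟨⟨g₀', c'⟩, hg'⟩ := g'
  obtain rfl : g₀' = g₀ := hb
  refine LocallyRingedSpace.Hom.ext' ?_
  show (PresheafedSpace.Hom.mk g₀' c : Y.toPresheafedSpace.Hom Z.toPresheafedSpace) = PresheafedSpace.Hom.mk g₀' c'
  congr 1
  refine NatTrans.ext (funext fun V => ?_)
  ext s
  refine TopCat.Presheaf.section_ext Y.sheaf _ _ _ fun y hy => ?_
  obtain ⟨U, t, hU, he⟩ := exists_local_lift hi s (g₀' y) hy
  set g : Y ⟶ Z := ⟨⟨g₀', c⟩, hg⟩ with hgdef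
  set g' : Y ⟶ Z := ⟨⟨g₀', c'⟩, hg'⟩ with hgdef'
  have e1 := (congrArg (g.stalkMap y).hom he).trans (LocallyRingedSpace.stalkMap_germ_apply g V.unop y hy s)
  have e2 := (congrArg (g'.stalkMap y).hom he).trans (LocallyRingedSpace.stalkMap_germ_apply g' V.unop y hy s)
  have f1 := LocallyRingedSpace.stalkMap_germ_apply g _ y hU (i.c.app (op U) t)
  have f2 := LocallyRingedSpace.stalkMap_germ_apply g' _ y hU (i.c.app (op U) t)
  refine (e1.symm.trans f1).trans (Eq.trans ?_ (e2.symm.trans f2).symm)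
  have k1 := LocallyRingedSpace.stalkMap_germ_apply (g ≫ i) U y hU t
  have k2 := LocallyRingedSpace.stalkMap_germ_apply (g' ≫ i) U y hU t
  exact (k1.symm.trans (stalkMap_germ_eq h' y (U := U) hU hU t).symm).trans k2

end GrothLib.LRSImm7
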